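import Groth.Agent.Lib.EulerConst10.BaseChange
import Groth.Agent.Lib.ArSurf29.DivSum
import Groth.Agent.Lib.Seesaw26.Functions
import Groth.Agent.Lib.CohFlat0.Main
import Groth.Agent.Lib.Nagata6.Comp
import Groth.Prelude.Def_CurvBase
import Groth.Prelude.Def_Models
import Groth.Prelude.Def_ModelsG
import Groth.Prelude.Def_BlowUp2
import Mathlib.Algebra.Polynomial.Roots
import Mathlib.Algebra.MvPolynomial.Eval

/-!
# The Euler characteristic of the generic fibre of a family with a multiple special fibre
-/

set_option autoImplicit false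
set_option linter.all false
set_option backward.isDefEq.respectTransparency false
set_option maxHeartbeats 600000

universe u

open CategoryTheory CategoryTheory.Limits AlgebraicGeometry TopologicalSpace IsLocalRing
open GrothLib.Euler (tF)

noncomputable section

namespace GrothLib.MultFib5

/-- The Euler characteristic of a base change to a field, as one of a fibre. -/
theorem euler_eq_fibEuler {X S Z : Scheme.{u}} (f : X ⟶ S) [IsProper f] {L : Type u} [Field L]
    (g : Spec (CommRingCat.of L) ⟶ S) (q : Z ⟶ Spec (CommRingCat.of L)) (i : Z ⟶ X)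
    (H : IsPullback i q f g) (F : X.Modules) [F.IsQuasicoherent] (pt : ↥(Spec (CommRingCat.of L))) :
    @Curv2.euler L _ Z ⟨q⟩ ((Scheme.Modules.pullback i).obj F) = EulerConst10.fibEuler f F (g pt) := by
  haveI : IsProper q := MorphismProperty.of_isPullback (P := @IsProper) H ‹IsProper f›
  haveI := FittSheaf.isQuasicoherent_pullback i F
  rw [← EulerConst10.fibEuler_baseChange H F pt]
  let φ := Spec.preimage ((Spec (CommRingCat.of L)).fromSpecResidueField pt)
  have H' : IsPullback (q.fiberι pt) (q.fiberToSpecResidueField pt) q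
      (Spec.map (CommRingCat.ofHom φ.hom)) := by
    rw [CommRingCat.ofHom_hom, Spec.map_preimage]
    exact IsPullback.of_hasPullback _ _
  exact (EulerConst10.euler_isPullback φ.hom q (q.fiberToSpecResidueField pt) (q.fiberι pt) H' _).symm

/-- The Euler characteristic of the structure sheaf of a base change to a field. -/
theorem euler_structure_eq_fibEuler {X S Z : Scheme.{u}} (f : X ⟶ S) [IsProper f] {L : Type u} [Field L]
    (g : Spec (CommRingCat.of L) ⟶ S) (q : Z ⟶ Spec (CommRingCat.of L)) (i : Z ⟶ X)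
    (H : IsPullback i q f g) (pt : ↥(Spec (CommRingCat.of L))) :
    @Curv2.euler L _ Z ⟨q⟩ (Coh.structureModule Z) =
      EulerConst10.fibEuler f (Coh.structureModule X) (g pt) := by
  haveI := Cohom.isQuasicoherent_structureModule X
  rw [← euler_eq_fibEuler f g q i H (Coh.structureModule X) pt]
  exact (@Euler.euler_of_iso Z L _ ⟨q⟩ _ _ (OX.pullUnitIso i)).symm

theorem isFP_structureModule' (X : Scheme.{u}) : CohB1.IsFP (Coh.structureModule X) :=
  haveI : (Coh.structureModule X).IsQuasicoherent := Cohom.isQuasicoherent_structureModule X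
  FlatFP.isFP_of_sections _ (fun U : X.affineOpens => U.1) (iSup_affineOpens_eq_top X) (fun U => U.2) fun U =>
    inferInstanceAs (Module.FinitePresentation Γ(X, U.1) Γ(X, U.1))

/-- Over a local base, all fibres of a flat proper family have the same Euler characteristic. -/
theorem fibEuler_eq_closed {X : Scheme.{u}} {R : Type u} [CommRing R] [IsLocalRing R] [IsNoetherianRing R]
    (f : X ⟶ Spec (CommRingCat.of R)) [IsProper f] [Flat f] (s : ↥(Spec (CommRingCat.of R))) :
    EulerConst10.fibEuler f (Coh.structureModule X) s =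
      EulerConst10.fibEuler f (Coh.structureModule X) (IsLocalRing.closedPoint R) := by
  obtain ⟨U, hU, h⟩ := EulerConst10.exists_nhd_euler_eq f (Coh.structureModule X)
    (isFP_structureModule' X) (Seesaw26.isFlatOver_structure f) (IsLocalRing.closedPoint R)
  exact h s ((IsLocalRing.specializes_closedPoint s).mem_open U.2 hU)

/-- A periodic polynomial function is constant. -/
theorem eq_const_of_periodic {f : (Fin 1 → ℕ) → ℚ} {d : ℕ} (hf : f ∈ Snapper.polyLT 1 d) {m : ℕ} (hm : 0 < m)
    (hp : ∀ n : ℕ, f (fun _ => n + m) = f (fun _ => n)) (n : ℕ) : f (fun _ => n) = f (fun _ => 0) := by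
  obtain ⟨P, -, hP⟩ := Snapper.exists_of_mem hf
  let q : Polynomial ℚ := MvPolynomial.aeval (fun _ : Fin 1 => Polynomial.X) P
  have hev : ∀ k : ℕ, q.eval (k : ℚ) = f fun _ => k := by
    intro k
    rw [← hP]
    show (Polynomial.aeval (k : ℚ)) q = MvPolynomial.eval (fun _ : Fin 1 => ((k : ℕ) : ℚ)) P
    rw [← AlgHom.comp_apply, MvPolynomial.comp_aeval]
    simp [MvPolynomial.aeval_eq_eval, Function.comp_def]
  have hmul : ∀ t : ℕ, q.eval ((t * m : ℕ) : ℚ) = f fun _ => 0 := by
    intro t
    induction t with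
    | zero => rw [Nat.zero_mul, hev]
    | succ t ih =>
      rw [hev, show (t + 1) * m = t * m + m by ring, hp]
      exact (hev _).symm.trans ih
  have hq : q = Polynomial.C (f fun _ => 0) := by
    refine Polynomial.eq_of_infinite_eval_eq _ _ (Set.Infinite.mono ?_
      (Set.infinite_range_of_injective (f := fun t : ℕ => ((t * m : ℕ) : ℚ)) ?_))
    · rintro _ ⟨t, rfl⟩
      show q.eval _ = _
      rw [hmul t, Polynomial.eval_C]
    · intro a b h
      exact Nat.eq_of_mul_eq_mul_right hm (Nat.cast_injective (R := ℚ) h)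
  rw [← hev n, hq, Polynomial.eval_C]

/-- The inverse images of the powers of an ideal, one of which is trivial, all have Euler characteristic `χ(O)`. -/
theorem euler_pullback_pow_eq (k : Type u) [Field k] {X W : Scheme.{u}} [W.Over (Spec (CommRingCat.of k))]
    [IsProper (W ↘ Spec (CommRingCat.of k))] (w : W ⟶ X) (I : X.IdealSheafData)
    (hI : BlowUp.IsEffCartierIdeal I) {m : ℕ} (hm : 1 ≤ m)
    (e : ClSub.idealMod (I ^ m) ≅ Coh.structureModule X) (j : ℕ) :
    Curv2.euler k W ((Scheme.Modules.pullback w).obj (ClSub.idealMod (I ^ (j + 1)))) =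
      Curv2.euler k W (Coh.structureModule W) := by
  let L : W.Modules := (Scheme.Modules.pullback w).obj (ClSub.idealMod I)
  let P := fun n : ℕ => (Scheme.Modules.pullback w).obj (ClSub.idealMod (I ^ (n + 1)))
  let L' : Fin 1 → W.Modules := fun _ => L
  have hinv : ∀ n : ℕ, PicF.IsInvertible (ClSub.idealMod (I ^ n)) := fun n =>
    IdealModSec.isInvertible_of_isEffCartier (Nagata6.isEffCartierIdeal_pow hI n)
  have hI' := IdealModSec.isInvertible_of_isEffCartier hI
  have hL : ∀ i, PicF.IsInvertible (L' i) := fun _ => Ample.isInvertible_pullback w hI'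
  -- adding one
  have hsucc : ∀ n, Nonempty (P (n + 1) ≅ CohB1.tensorMod (P n) L) := by
    intro n
    obtain ⟨a, -⟩ := ArSurf29.exists_iso_mul (I ^ (n + 1)) I (hinv _) hI'
    rw [← pow_succ] at a
    exact ⟨(Scheme.Modules.pullback w).mapIso a.symm ≪≫ OX.pullTensorIso w _ _⟩
  -- the period
  have hper : ∀ n, Nonempty (P (n + m) ≅ P n) := by
    intro n
    obtain ⟨a, -⟩ := ArSurf29.exists_iso_mul (I ^ (n + 1)) (I ^ m) (hinv _) (hinv m)
    rw [← pow_add, show n + 1 + m = n + m + 1 by omega] at a
    exact ⟨(Scheme.Modules.pullback w).mapIso (a.symm ≪≫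
      ((DCoh.tensorBi (X := X)).obj (ClSub.idealMod (I ^ (n + 1)))).mapIso e ≪≫ Euler.tFUnitIso _)⟩
  -- the twists
  have htw : ∀ n, Nonempty (P n ≅ (tF (Snapper.invPows 1 L' fun _ => n)).obj L) := by
    intro n
    induction n with
    | zero =>
      obtain ⟨a⟩ := Snapper.invPows_zero_iso 1 L'
      let e₁ : P 0 ≅ L := (Scheme.Modules.pullback w).mapIso (eqToIso (congrArg ClSub.idealMod (pow_one I)))
      let e₂ : L ≅ (tF (Snapper.invPows 1 L' fun _ => 0)).obj L :=
        (Euler.tFUnitIso L).symm ≪≫ ((DCoh.tensorBi (X := W)).obj L).mapIso a.symm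
      exact ⟨e₁ ≪≫ e₂⟩
    | succ n ih =>
      obtain ⟨a⟩ := ih
      obtain ⟨b⟩ := hsucc n
      obtain ⟨c⟩ := Snapper.nonempty_invPows_add_single 1 L' (fun _ => n) 0
      have hn : ((fun _ => n) + Pi.single (0 : Fin 1) 1 : Fin 1 → ℕ) = fun _ => n + 1 := by
        funext i; fin_cases i; simp
      rw [hn] at c
      let N := Snapper.invPows 1 L' fun _ => n
      let e₁ : (tF L).obj ((tF N).obj L) ≅ ((DCoh.tensorBi (X := W)).obj L).obj ((tF L).obj N) := OX.tensorAssoc L N L
      let e₂ : (tF N).obj L ≅ (tF L).obj N := ((OX.tensorBraiding (X := W)).app N).app L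
      let e₃ : (tF L).obj N ≅ Snapper.invPows 1 L' fun _ => n + 1 := e₂.symm ≪≫ c.symm
      exact ⟨b ≪≫ (tF L).mapIso a ≪≫ e₁ ≪≫ ((DCoh.tensorBi (X := W)).obj L).mapIso e₃⟩
  have hphi : ∀ n : ℕ, Snapper.phi k 1 L' L (fun _ => n) = (Curv2.euler k W (P n) : ℚ) := fun n => by
    obtain ⟨a⟩ := htw n
    exact congrArg Int.cast (Euler.euler_of_iso k a).symm
  haveI := Euler.isNoetherian_of_proper (X := W) k
  obtain ⟨d, hd⟩ := EulerConst10.exists_dim_fiber_le_on (W ↘ Spec (CommRingCat.of k))
    (isAffineOpen_top (Spec (CommRingCat.of k)))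
  have hdim : topologicalKrullDim W ≤ (d : WithBot ℕ∞) := by
    let f := W ↘ Spec (CommRingCat.of k)
    let s : Spec (CommRingCat.of k) := IsLocalRing.closedPoint k
    have hr : Set.range (f.fiberι s) = (Set.univ : Set W) := by
      rw [Scheme.Hom.range_fiberι]
      exact Set.eq_univ_of_forall fun x => Subsingleton.elim _ _
    refine le_trans (le_of_eq ?_) (hd s trivial)
    exact (IsHomeomorph.topologicalKrullDim_eq _ (((f.fiberι s).isEmbedding.toHomeomorph).trans
      ((Homeomorph.setCongr hr).trans (Homeomorph.Set.univ W))).isHomeomorph).symm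
  have hpoly : Snapper.phi k 1 L' L ∈ Snapper.polyLT 1 (d + 1) := by
    refine Snapper.phi_mem_polyLT k hL (d + 1) L (Euler.isCoh_of_isInvertible (hL 0)) ?_
    refine (Snapper.dimLT_of_dim_le (S := (Set.univ : Set W)) ?_).mono (Set.subset_univ _)
    exact (IsHomeomorph.topologicalKrullDim_eq _ (Homeomorph.Set.univ W).isHomeomorph).trans_le hdim
  have hconst : ∀ n, Curv2.euler k W (P n) = Curv2.euler k W (P 0) := fun n => by
    have h := eq_const_of_periodic hpoly (show 0 < m by omega) (fun t => by
      rw [hphi, hphi]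
      exact congrArg Int.cast (Euler.euler_of_iso k (hper t).some)) n
    rw [hphi, hphi] at h
    exact_mod_cast h
  have hlast : Nonempty (P (m - 1) ≅ Coh.structureModule W) := by
    have hm' : m - 1 + 1 = m := by omega
    exact ⟨(Scheme.Modules.pullback w).mapIso (eqToIso (congrArg (fun t => ClSub.idealMod (I ^ t)) hm') ≪≫ e)
      ≪≫ OX.pullUnitIso w⟩
  show Curv2.euler k W (P j) = _
  rw [hconst j, ← hconst (m - 1), Euler.euler_of_iso k hlast.some]

end GrothLib.MultFib5
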