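import Groth.Agent.Lib.MultFib5.Euler
import Groth.Prelude.Def_Pi1
import Mathlib.RingTheory.LocalRing.ResidueField.Basic

/-!
# The multiplicity of a multiple special fibre divides the Euler characteristic of the generic fibre
-/

set_option autoImplicit false
set_option linter.all false
set_option backward.isDefEq.respectTransparency false
set_option maxHeartbeats 600000

universe u

open CategoryTheory CategoryTheory.Limits AlgebraicGeometry TopologicalSpace IsLocalRing

noncomputable section

namespace GrothLib.MultFib5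

variable {R : Type u} [CommRing R] [IsDomain R] [IsDiscreteValuationRing R]

theorem spec_residue_ker :
    (Spec.map (CommRingCat.ofHom (residue R))).ker = Curv2.idealSheaf R (maximalIdeal R) := by
  rw [Scheme.ker_of_isAffine, Curv2.idealSheaf]
  congr 1
  let φ := CommRingCat.ofHom (residue R)
  have hiff : ∀ a, (Spec.map φ).appTop a = 0 ↔ residue R ((Scheme.ΓSpecIso (CommRingCat.of R)).hom a) = 0 := fun a => by
    have h := ConcreteCategory.congr_hom (Scheme.ΓSpecIso_naturality φ) a
    have hinj := (ConcreteCategory.bijective_of_isIso (Scheme.ΓSpecIso (CommRingCat.of (ResidueField R))).hom).1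
    constructor
    · intro ha
      refine h.symm.trans ?_
      show (Scheme.ΓSpecIso _).hom ((Spec.map φ).appTop a) = 0
      rw [ha]
      exact map_zero _
    · intro ha
      refine hinj ((h.trans ha).trans (map_zero _).symm)
  ext a
  rw [RingHom.mem_ker]
  refine (hiff a).trans ?_
  rw [← RingHom.mem_ker, ker_residue]
  let e := (Scheme.ΓSpecIso (CommRingCat.of R)).commRingCatIsoToRingEquiv
  have := Ideal.map_symm (I := maximalIdeal R) e
  show e a ∈ maximalIdeal R ↔ a ∈ (maximalIdeal R).map e.symm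
  rw [this, Ideal.mem_comap]

/-- The special fibre, as the closed subscheme of its ideal, is the base change to the residue field. -/
theorem exists_isPullback_fibre {𝒳 : Scheme.{u}} (p : 𝒳 ⟶ Spec (CommRingCat.of R))
    (D : 𝒳.IdealSheafData) (hD : D = Models.specialFibreIdeal R (Over.mk p)) :
    ∃ s : D.subscheme ⟶ Spec (CommRingCat.of (ResidueField R)),
      IsPullback D.subschemeι s p (Spec.map (CommRingCat.ofHom (residue R))) := by
  haveI : IsClosedImmersion (Spec.map (CommRingCat.ofHom (residue R))) :=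
    IsClosedImmersion.spec_of_surjective _ residue_surjective
  have hc : (Spec.map (CommRingCat.ofHom (residue R))).ker.comap p = D := by
    rw [spec_residue_ker, hD]
    rfl
  have hle : (Spec.map (CommRingCat.ofHom (residue R))).ker ≤ (D.subschemeι ≫ p).ker := by
    refine le_trans ?_ (Scheme.IdealSheafData.map_mono hc.le (f := p))
    exact Scheme.IdealSheafData.le_map_comap _ _
  exact ⟨IsClosedImmersion.lift _ _ hle, isPullback_of_isClosedImmersion D.subschemeι
    (Spec.map (CommRingCat.ofHom (residue R))) _ p (IsClosedImmersion.lift_fac _ _ hle).symm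
    (by rw [hc, Scheme.IdealSheafData.ker_subschemeι])⟩

/-- One step of the filtration. -/
theorem euler_step (k : Type u) [Field k] {𝒳 Z W V : Scheme.{u}} [IsLocallyNoetherian 𝒳] (D K : 𝒳.IdealSheafData)
    (hD : BlowUp.IsEffCartierIdeal D) (hK : BlowUp.IsEffCartierIdeal K)
    (sZ : Z ⟶ Spec (CommRingCat.of k)) [IsProper sZ] (sW : W ⟶ Spec (CommRingCat.of k))
    (sV : V ⟶ Spec (CommRingCat.of k)) (z : Z ⟶ 𝒳) [IsClosedImmersion z] (hz : z.ker = D * K)
    (w : W ⟶ 𝒳) (i : W ⟶ Z) [IsClosedImmersion i] (hi : i ≫ z = w) (hwk : w.ker = K) (hsW : i ≫ sZ = sW)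
    (c : V ⟶ 𝒳) (v : V ⟶ Z) [IsClosedImmersion v] (hv : v ≫ z = c) (hck : c.ker = D) (hsV : v ≫ sZ = sV) :
    @Curv2.euler k _ Z ⟨sZ⟩ (Coh.structureModule Z) =
      @Curv2.euler k _ W ⟨sW⟩ ((Scheme.Modules.pullback w).obj (ClSub.idealMod D)) +
        @Curv2.euler k _ V ⟨sV⟩ (Coh.structureModule V) := by
  subst hi hv
  letI : Z.Over (Spec (CommRingCat.of k)) := ⟨sZ⟩
  letI : W.Over (Spec (CommRingCat.of k)) := ⟨sW⟩
  letI : V.Over (Spec (CommRingCat.of k)) := ⟨sV⟩
  haveI : IsProper (Z ↘ Spec (CommRingCat.of k)) := ‹IsProper sZ›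
  exact ArSurf29.euler_mul_eq k D K (IdealModSec.isInvertible_of_isEffCartier hD)
    (IdealModSec.isInvertible_of_isEffCartier hK) z hz i hwk hsW v hck hsV

/-- The Euler characteristics of the thickenings `I^(j+1)` of the support of the special fibre. -/
theorem euler_pow_eq {𝒳 : Scheme.{u}} (p : 𝒳 ⟶ Spec (CommRingCat.of R)) [IsProper p] [Flat p]
    (I : 𝒳.IdealSheafData) (hI : BlowUp.IsEffCartierIdeal I) {m : ℕ}
    (hIm : I ^ m = Models.specialFibreIdeal R (Over.mk p))
    (sW : (I ^ (0 + 1)).subscheme ⟶ Spec (CommRingCat.of (ResidueField R)))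
    (hW : sW ≫ Spec.map (CommRingCat.ofHom (residue R)) = (I ^ (0 + 1)).subschemeι ≫ p) :
    ∀ (j : ℕ), j + 1 ≤ m → ∀ (s : (I ^ (j + 1)).subscheme ⟶ Spec (CommRingCat.of (ResidueField R))),
      s ≫ Spec.map (CommRingCat.ofHom (residue R)) = (I ^ (j + 1)).subschemeι ≫ p →
      @Curv2.euler (ResidueField R) _ (I ^ (j + 1)).subscheme ⟨s⟩ (Coh.structureModule _) =
        (j + 1 : ℤ) * @Curv2.euler (ResidueField R) _ (I ^ (0 + 1)).subscheme ⟨sW⟩ (Coh.structureModule _) := by
  haveI : IsClosedImmersion (Spec.map (CommRingCat.ofHom (residue R))) :=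
    IsClosedImmersion.spec_of_surjective _ residue_surjective
  haveI : IsLocallyNoetherian 𝒳 := LocallyOfFiniteType.isLocallyNoetherian p
  intro j
  induction j with
  | zero =>
    intro _ s hs
    obtain rfl : s = sW := (cancel_mono _).1 (hs.trans hW.symm)
    simp
  | succ j ih =>
    intro hjm s hs
    let Z := (I ^ (j + 1 + 1)).subscheme
    let z : Z ⟶ 𝒳 := (I ^ (j + 1 + 1)).subschemeι
    have h1 : z.ker ≤ (I ^ (j + 1)).subschemeι.ker := by
      simp only [z, Scheme.IdealSheafData.ker_subschemeι]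
      rw [pow_succ I (j + 1)]
      exact ArSurf29.mul_le_left' _ _
    have h0 : z.ker ≤ (I ^ (0 + 1)).subschemeι.ker := by
      simp only [z, Scheme.IdealSheafData.ker_subschemeι]
      rw [pow_succ' I (j + 1), show 0 + 1 = 1 from rfl, pow_one]
      exact ArSurf29.mul_le_left' _ _
    let v := IsClosedImmersion.lift z _ h1
    let i := IsClosedImmersion.lift z _ h0
    have hv : v ≫ z = (I ^ (j + 1)).subschemeι := IsClosedImmersion.lift_fac _ _ _
    have hi : i ≫ z = (I ^ (0 + 1)).subschemeι := IsClosedImmersion.lift_fac _ _ _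
    haveI : IsClosedImmersion v := by
      haveI : IsClosedImmersion (v ≫ z) := by rw [hv]; infer_instance
      exact IsClosedImmersion.of_comp v z
    haveI : IsClosedImmersion i := by
      haveI : IsClosedImmersion (i ≫ z) := by rw [hi]; infer_instance
      exact IsClosedImmersion.of_comp i z
    let sV := v ≫ s
    have hV : sV ≫ Spec.map (CommRingCat.ofHom (residue R)) = (I ^ (j + 1)).subschemeι ≫ p := by
      rw [Category.assoc, hs, ← Category.assoc, hv]
    have hsW : i ≫ s = sW := (cancel_mono _).1 (by rw [Category.assoc, hs, ← Category.assoc, hi, hW])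
    have ihV := ih (by omega) sV hV
    haveI : IsProper s := by
      haveI : IsProper (s ≫ Spec.map (CommRingCat.ofHom (residue R))) := by rw [hs]; infer_instance
      exact IsProper.of_comp s (Spec.map (CommRingCat.ofHom (residue R)))
    have h := euler_step (ResidueField R) (I ^ (j + 1)) I (Nagata6.isEffCartierIdeal_pow hI _) hI
      s sW sV z (by simp only [z, Scheme.IdealSheafData.ker_subschemeι]; exact pow_succ I (j + 1))
      _ i hi (by rw [Scheme.IdealSheafData.ker_subschemeι]; exact pow_one I) hsW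
      _ v hv (Scheme.IdealSheafData.ker_subschemeι _) rfl
    letI : (I ^ (0 + 1)).subscheme.Over (Spec (CommRingCat.of (ResidueField R))) := ⟨sW⟩
    haveI : IsProper ((I ^ (0 + 1)).subscheme ↘ Spec (CommRingCat.of (ResidueField R))) := by
      haveI : IsProper (sW ≫ Spec.map (CommRingCat.ofHom (residue R))) := by rw [hW]; infer_instance
      exact IsProper.of_comp sW (Spec.map (CommRingCat.ofHom (residue R)))
    -- the ideal of the special fibre is trivial
    obtain ⟨π, hπ⟩ := IsDiscreteValuationRing.exists_irreducible R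
    letI : 𝒳.Over (Spec (CommRingCat.of R)) := ⟨p⟩
    haveI : Flat (𝒳 ↘ Spec (CommRingCat.of R)) := ‹Flat p›
    obtain ⟨hh, hS⟩ := CohFlat0.exists_shortExact R (X := 𝒳) hπ.maximalIdeal_eq
      (mem_nonZeroDivisors_of_ne_zero hπ.ne_zero)
    let e0 : ClSub.idealMod (CohFlat0.sfi R 𝒳) ≅ Coh.structureModule 𝒳 :=
      IsLimit.conePointUniqueUpToIso (kernelIsKernel (ClSub.toSubscheme (CohFlat0.sfi R 𝒳))) hS.fIsKernel
    let e : ClSub.idealMod (I ^ m) ≅ Coh.structureModule 𝒳 := eqToIso (congrArg ClSub.idealMod hIm) ≪≫ e0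
    have hW1 := euler_pullback_pow_eq (ResidueField R) (I ^ (0 + 1)).subschemeι I hI (show 1 ≤ m by omega) e j
    rw [hW1] at h
    refine h.trans ?_
    rw [ihV]
    push_cast
    ring

/-- **The multiplicity of the special fibre divides `χ(X, O_X)`.** -/
theorem dvd_euler {𝒳 : Scheme.{u}} (p : 𝒳 ⟶ Spec (CommRingCat.of R)) [IsProper p] [Flat p]
    {X : Scheme.{u}} (f : X ⟶ Spec (CommRingCat.of (FractionRing R))) (g : X ⟶ 𝒳)
    (H : IsPullback g f p (Spec.map (CommRingCat.ofHom (algebraMap R (FractionRing R)))))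
    {m : ℕ} (hm : 1 ≤ m) (I : 𝒳.IdealSheafData) (hI : BlowUp.IsEffCartierIdeal I)
    (hIm : I ^ m = Models.specialFibreIdeal R (Over.mk p)) :
    (m : ℤ) ∣ @Curv2.euler (FractionRing R) _ X ⟨f⟩ (Coh.structureModule X) := by
  obtain ⟨j, rfl⟩ : ∃ j, m = j + 1 := ⟨m - 1, by omega⟩
  obtain ⟨s, hs⟩ := exists_isPullback_fibre p (I ^ (j + 1)) hIm
  rw [euler_structure_eq_fibEuler p _ f g H (IsLocalRing.closedPoint _), fibEuler_eq_closed p,
    ← fibEuler_eq_closed p ((Spec.map (CommRingCat.ofHom (residue R))) (IsLocalRing.closedPoint _)),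
    ← euler_structure_eq_fibEuler p _ s _ hs (IsLocalRing.closedPoint _)]
  have h0 : (I ^ (j + 1)).subschemeι.ker ≤ (I ^ (0 + 1)).subschemeι.ker := by
    simp only [Scheme.IdealSheafData.ker_subschemeι]
    rw [pow_succ' I j, show 0 + 1 = 1 from rfl, pow_one]
    exact ArSurf29.mul_le_left' _ _
  let i := IsClosedImmersion.lift (I ^ (j + 1)).subschemeι _ h0
  rw [euler_pow_eq p I hI hIm (i ≫ s) (by
    rw [Category.assoc, ← hs.w, ← Category.assoc, IsClosedImmersion.lift_fac]) j le_rfl s hs.w.symm]
  push_cast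
  exact dvd_mul_right _ _

end GrothLib.MultFib5
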