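import Groth.Agent.Lib.MultFib5.Main
import Groth.Agent.Lib.ArSurf29.Fibre
import Groth.Agent.Lib.Euler.AmpleComponents

/-!
# Roots of the special fibre of a regular model
-/

set_option autoImplicit false
set_option linter.all false
set_option backward.isDefEq.respectTransparency false
set_option maxHeartbeats 600000

universe u

open CategoryTheory CategoryTheory.Limits AlgebraicGeometry TopologicalSpace IsLocalRing

noncomputable section

namespace GrothLib.MultFib5

open GrothLib.CartierDescent (stalkIdeal stalkIdeal_eq_top_iff)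

theorem finite_maximal {X : Scheme.{u}} [NoetherianSpace X] {S : Set X} (hS : IsClosed S) :
    {y : X | y ∈ S ∧ ∀ w ∈ S, w ⤳ y → w = y}.Finite := by
  classical
  obtain ⟨F, hF, hFcl, hFirr, hcov⟩ := NoetherianSpace.exists_finite_set_isClosed_irreducible hS
  have := hF.to_subtype
  choose η hη using fun C : F => QuasiSober.sober (hFirr C C.2) (hFcl C C.2)
  refine (Set.finite_range η).subset fun y hy => ?_
  have h := hy.1
  rw [hcov] at h
  obtain ⟨C, hC, hyC⟩ := h
  exact ⟨⟨C, hC⟩, hy.2 _ (hcov ▸ ⟨C, hC, (hη ⟨C, hC⟩).mem⟩) ((hη ⟨C, hC⟩).specializes hyC)⟩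

variable {R : Type u} [CommRing R] [IsDomain R] [IsDiscreteValuationRing R]
  {X : Over (Spec (CommRingCat.of R))}

/-- The ideal of the closure of a point. -/
def primeDiv {Y : Scheme.{u}} (y : Y) : Y.IdealSheafData :=
  Scheme.IdealSheafData.vanishingIdeal ⟨closure {y}, isClosed_closure⟩

theorem support_primeDiv {Y : Scheme.{u}} (y : Y) : ((primeDiv y).support : Set Y) = closure {y} :=
  Scheme.IdealSheafData.coe_support_vanishingIdeal _

instance {Y : Scheme.{u}} (y : Y) : IsIntegral (primeDiv y).subscheme :=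
  Euler.isIntegral_vanishingIdeal _ isIrreducible_singleton.closure

theorem gpt_primeDiv {Y : Scheme.{u}} (y : Y) : DivPart.gpt (primeDiv y) = y := by
  refine (Specializes.antisymm ?_ ?_).eq
  · exact DivPart.gpt_specializes_iff.2 ((support_primeDiv y).ge (subset_closure rfl))
  · exact specializes_iff_mem_closure.2 ((support_primeDiv y).le DivPart.gpt_mem_support)

theorem st_primeDiv {Y : Scheme.{u}} (y : Y) :
    stalkIdeal (primeDiv y) y = maximalIdeal (Y.presheaf.stalk y) := by
  have h := DivPart.stalkIdeal_gpt (D := primeDiv y)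
  have e := gpt_primeDiv y
  revert h
  generalize DivPart.gpt (primeDiv y) = z at e ⊢
  subst e
  exact id

variable [IsLocallyNoetherian X.left]

/-- A maximal point of the closed fibre has codimension one. -/
theorem dim_maximal [Flat X.hom] {y : X.left} (hy : y ∈ Models.specialFibreSet R X)
    (hmax : ∀ w ∈ Models.specialFibreSet R X, w ⤳ y → w = y) :
    ringKrullDim (X.left.presheaf.stalk y) = 1 := by
  obtain ⟨γ, hγ, hF⟩ := CartierDescent.exists_stalk_generator (ArSurf29.isEffCartier_fibre (X := X)) y
  have hsupp : y ∈ (Models.specialFibreIdeal R X).support := (ArSurf29.support_fibre (X := X)).ge hy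
  have hne : Ideal.span {γ} ≠ ⊤ := by
    rw [← hF]
    exact fun h => (stalkIdeal_eq_top_iff _ _).1 h hsupp
  have hmin : maximalIdeal (X.left.presheaf.stalk y) ∈ (Ideal.span {γ}).minimalPrimes := by
    refine ⟨⟨inferInstance, le_maximalIdeal hne⟩, fun P ⟨hP, hγP⟩ _ => ?_⟩
    haveI := hP
    obtain ⟨z, hz, hPz, -⟩ := CartierDescent.exists_specializes_eq y P
    have hzF : z ∈ Models.specialFibreSet R X := by
      rw [← ArSurf29.support_fibre]
      by_contra hc
      have h2 := CartierDescent.stalkIdeal_map_specializes (Models.specialFibreIdeal R X) hz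
      rw [(stalkIdeal_eq_top_iff _ _).2 hc, hF] at h2
      have h3 : (Ideal.span {γ}).map (X.left.presheaf.stalkSpecializes hz).hom ≤
          maximalIdeal (X.left.presheaf.stalk z) := Ideal.map_le_iff_le_comap.2 (hγP.trans hPz.le)
      rw [h2] at h3
      exact (maximalIdeal.isMaximal _).ne_top (top_le_iff.1 h3)
    obtain rfl := hmax z hzF hz
    rw [hPz]
    intro a ha
    simpa [TopCat.Presheaf.stalkSpecializes_refl] using ha
  have hle : (maximalIdeal (X.left.presheaf.stalk y)).height ≤ 1 :=
    Ideal.height_le_one_of_isPrincipal_of_mem_minimalPrimes _ _ hmin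
  have hge : (maximalIdeal (X.left.presheaf.stalk y)).height ≠ 0 := fun h0 => by
    have hm := Ideal.height_eq_zero_iff.1 h0
    exact Set.disjoint_left.1 (Ideal.disjoint_nonZeroDivisors_of_mem_minimalPrimes hm)
      (le_maximalIdeal hne (Ideal.mem_span_singleton_self γ)) hγ
  rw [← IsLocalRing.maximalIdeal_height_eq_ringKrullDim]
  exact_mod_cast le_antisymm hle (ENat.one_le_iff_ne_zero.2 hge)

variable (hX : Models.IsRegularScheme X.left)
include hX

theorem isEffCartier_primeDiv {y : X.left} (hy : ringKrullDim (X.left.presheaf.stalk y) = 1) :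
    _root_.BlowUp.IsEffCartierIdeal (primeDiv y) := by
  intro x
  haveI := hX x
  haveI := CMFree.isDomain_of_isRegularLocalRing (X.left.presheaf.stalk x)
  haveI : UniqueFactorizationMonoid (X.left.presheaf.stalk x) := RegUFD.ufd_of_isRegularLocalRing _
  obtain ⟨U, hxU, hU⟩ := GrothLib.BlowUp.exists_cartierOn_of_ufd (primeDiv y) (fun z hz => by
    rw [WeakAss.isWeakAssPoint_structure_iff] at hz
    obtain rfl : genericPoint (primeDiv y).subscheme = z := hz _ (genericPoint_specializes z)
    rw [show (primeDiv y).subschemeι (genericPoint (primeDiv y).subscheme) = y from gpt_primeDiv y]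
    exact hy) x
  exact ⟨U, hxU, hU⟩

/-- If `m` divides all multiplicities, the closed fibre is `m` times a divisor. -/
theorem exists_root [CompactSpace X.left] [Flat X.hom] (m : ℕ)
    (h : ∀ y ∈ Models.specialFibreSet R X, (∀ w ∈ Models.specialFibreSet R X, w ⤳ y → w = y) →
      m ∣ ArSurf29.oAt (Models.specialFibreIdeal R X) y) :
    ∃ I : X.left.IdealSheafData, _root_.BlowUp.IsEffCartierIdeal I ∧ I ^ m = Models.specialFibreIdeal R X := by
  classical
  haveI : IsNoetherian X.left := {}
  let S := (finite_maximal (Models.isClosed_specialFibreSet R X)).toFinset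
  have hS : ∀ y, y ∈ S ↔ (y ∈ Models.specialFibreSet R X ∧ ∀ w ∈ Models.specialFibreSet R X, w ⤳ y → w = y) :=
    fun y => Set.Finite.mem_toFinset _
  let F := Models.specialFibreIdeal R X
  let I := ∏ y ∈ S, primeDiv y ^ (ArSurf29.oAt F y / m)
  have hpow : ∀ y ∈ S, ∀ a : ℕ, _root_.BlowUp.IsEffCartierIdeal (primeDiv y ^ a) := fun y hy a => by
    have hc := isEffCartier_primeDiv hX (dim_maximal ((hS y).1 hy).1 ((hS y).1 hy).2)
    exact Nagata6.isEffCartierIdeal_pow hc a
  have hI : _root_.BlowUp.IsEffCartierIdeal I :=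
    Finset.prod_induction (M := X.left.IdealSheafData) _ (fun I => _root_.BlowUp.IsEffCartierIdeal I)
      (fun I J hI hJ => GrothLib.BlowUp.isEffCartierIdeal_mul hI hJ)
      GrothLib.BlowUp.isEffCartierIdeal_top fun y hy => hpow y hy _
  refine ⟨I, hI, ArSurf29.eq_of_codim_one (ArSurf29.isNormalScheme_of_regular hX)
    (Nagata6.isEffCartierIdeal_pow hI m) ArSurf29.isEffCartier_fibre fun z hz => ?_⟩
  haveI := hX z
  haveI := CMFree.isDomain_of_isRegularLocalRing (X.left.presheaf.stalk z)
  haveI := RegLoc.isIntegrallyClosed_of_isRegularLocalRing (X.left.presheaf.stalk z)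
  haveI := ArSurf29.isDVR_of_dim_one hz
  show DivPart.stalkHom z (I ^ m) = stalkIdeal F z
  simp only [I, map_pow, map_prod]
  -- a point of `S` whose closure contains `z` is `z`
  have hsp : ∀ y ∈ S, z ∈ closure ({y} : Set X.left) → y = z := by
    intro y hy hzy
    have h1 : y ⤳ z := specializes_iff_mem_closure.2 hzy
    obtain ⟨γ, hγ, hF⟩ := CartierDescent.exists_stalk_generator (ArSurf29.isEffCartier_fibre (X := X)) z
    by_contra hne
    have hu := CartierDescent.isUnit_stalkSpecializes hz.le h1 hne (nonZeroDivisors.ne_zero hγ)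
    have h2 := CartierDescent.stalkIdeal_map_specializes (Models.specialFibreIdeal R X) h1
    rw [hF, Ideal.map_span, Set.image_singleton, Ideal.span_singleton_eq_top.2 hu] at h2
    exact (stalkIdeal_eq_top_iff _ _).1 h2.symm ((ArSurf29.support_fibre (X := X)).ge ((hS y).1 hy).1)
  by_cases hzF : z ∈ Models.specialFibreSet R X
  · obtain ⟨y, hy, hyz, hmax⟩ := DivPart.exists_maximal_generization (Models.isClosed_specialFibreSet R X) hzF
    have hyS : y ∈ S := (hS y).2 ⟨hy, hmax⟩
    obtain rfl := hsp y hyS (specializes_iff_mem_closure.1 hyz)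
    rw [Finset.prod_eq_single y, show DivPart.stalkHom y (primeDiv y) = maximalIdeal _ from st_primeDiv y, ← pow_mul,
      Nat.div_mul_cancel (h y hy hmax)]
    · obtain ⟨γ, hγ, hF⟩ := CartierDescent.exists_stalk_generator (ArSurf29.isEffCartier_fibre (X := X)) y
      obtain ⟨ϖ, hϖ⟩ := IsDiscreteValuationRing.exists_irreducible (X.left.presheaf.stalk y)
      obtain ⟨n, hn⟩ := IsDiscreteValuationRing.ideal_eq_span_pow_irreducible
        (show stalkIdeal F y ≠ ⊥ by
          rw [show stalkIdeal F y = _ from hF, Ne, Ideal.span_singleton_eq_bot]; exact nonZeroDivisors.ne_zero hγ) hϖ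
      rw [← Ideal.span_singleton_pow, ← hϖ.maximalIdeal_eq] at hn
      rw [hn, ArSurf29.oAt_eq_of_st_eq_pow hn]
    · intro w hw hwy
      rw [show DivPart.stalkHom y (primeDiv w) = ⊤ from (stalkIdeal_eq_top_iff _ _).2 fun hm =>
        hwy (hsp w hw ((support_primeDiv w).le hm)), Ideal.top_pow, Ideal.one_eq_top]
    · exact fun hn => absurd hyS hn
  · rw [show stalkIdeal F z = ⊤ from (stalkIdeal_eq_top_iff _ _).2 fun hm =>
      hzF ((ArSurf29.support_fibre (X := X)).le hm), Finset.prod_eq_one, one_pow, Ideal.one_eq_top]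
    intro y hy
    rw [show DivPart.stalkHom z (primeDiv y) = ⊤ from (stalkIdeal_eq_top_iff _ _).2 fun hm =>
      hzF (by obtain rfl := hsp y hy ((support_primeDiv y).le hm); exact ((hS y).1 hy).1), Ideal.top_pow, Ideal.one_eq_top]

end GrothLib.MultFib5
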